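import Mathlib

/-!
Permutations of prime order `r` fixing a partition into blocks of one size.
-/

set_option autoImplicit false

namespace Cfsg.Agent.Comb.PartPrime

open Equiv Finset

variable {r : ℕ} [Fact r.Prime]

theorem support_dvd {α : Type*} [Fintype α] [DecidableEq α] {σ : Perm α} (h : σ ^ r = 1) :
    σ.cycleType = Multiset.replicate (σ.support.card / r) r ∧ r ∣ σ.support.card := by
  have h1 := (Perm.pow_prime_eq_one_iff (p := r)).1 h
  have h2 : σ.cycleType = Multiset.replicate σ.cycleType.card r := Multiset.eq_replicate_card.2 h1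
  have h3 : σ.support.card = σ.cycleType.card * r := by
    rw [← Perm.sum_cycleType]
    conv_lhs => rw [h2, Multiset.sum_replicate, smul_eq_mul]
  refine ⟨?_, ⟨_, h3.trans (mul_comm _ _)⟩⟩
  rw [h3, Nat.mul_div_cancel _ (Fact.out : r.Prime).pos]
  exact h2

/-- The number of `r`-cycles of a permutation fixing a partition. -/
theorem shape {α β : Type*} [Fintype α] [DecidableEq α] [Fintype β] [DecidableEq β] {a : ℕ} (ha : 0 < a)
    {σ : Perm α} (hσ : σ ^ r = 1) {f : α → β} (hf : ∀ j, Nat.card {x // f x = j} = a) {π : Perm β}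
    (h : ∀ x, f (σ x) = π (f x)) :
    ∃ u c, u * r ≤ Fintype.card β ∧ c ≤ (Fintype.card β - u * r) * (a / r) ∧
      σ.support.card = r * (u * a + c) := by
  classical
  have hfilter : ∀ j, (univ.filter fun x => f x = j).card = a := fun j => by
    rw [← hf j, Nat.card_eq_fintype_card, Fintype.card_subtype]
  have hsurj : Function.Surjective f := fun j => by
    obtain ⟨x, hx⟩ := Finset.card_pos.1 (by rw [hfilter j]; exact ha : 0 < (univ.filter fun x => f x = j).card)
    exact ⟨x, (mem_filter.1 hx).2⟩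
  have hit : ∀ (n : ℕ) x, f ((σ ^ n) x) = (π ^ n) (f x) := fun n x => by
    induction n with
    | zero => simp
    | succ n ih => rw [pow_succ', pow_succ', Perm.mul_apply, Perm.mul_apply, h, ih]
  have hπ : π ^ r = 1 := Equiv.ext fun j => by
    obtain ⟨x, rfl⟩ := hsurj j
    rw [← hit r x, hσ]; rfl
  obtain ⟨u, hu⟩ := (support_dvd hπ).2
  have hfix : ∀ j, π j = j → r ∣ (σ.support.filter fun x => f x = j).card := by
    intro j hj
    have hp : ∀ x, f (σ x) = j ↔ f x = j := fun x => by
      rw [h]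
      exact ⟨fun e => π.injective (e.trans hj.symm), fun e => by rw [e, hj]⟩
    set τ : Perm {x // f x = j} := σ.subtypePerm hp
    have hτ : τ ^ r = 1 := by
      rw [Perm.subtypePerm_pow]
      exact Equiv.ext fun x => Subtype.ext (by simp [hσ])
    have e : τ.support.map (Function.Embedding.subtype _) = σ.support.filter fun x => f x = j := by
      ext x
      simp [τ, Perm.mem_support, Subtype.ext_iff, and_comm]
    rw [← e, card_map]
    exact (support_dvd hτ).2
  have hmove : ∀ j, π j ≠ j → (σ.support.filter fun x => f x = j).card = a := by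
    intro j hj
    rw [← hfilter j]
    congr 1
    ext x
    simp only [mem_filter, Perm.mem_support, mem_univ, true_and, and_iff_right_iff_imp]
    intro hx hσx
    exact hj (by rw [← hx, ← h, hσx])
  have hdiv : ∀ j ∈ π.supportᶜ, ∃ n, n ≤ a / r ∧ (σ.support.filter fun x => f x = j).card = r * n := by
    intro j hj
    rw [mem_compl, Perm.notMem_support] at hj
    obtain ⟨n, hn⟩ := hfix j hj
    refine ⟨n, (Nat.le_div_iff_mul_le (Fact.out : r.Prime).pos).2 ?_, hn⟩
    rw [mul_comm, ← hn, ← hfilter j]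
    exact card_le_card (filter_subset_filter _ (subset_univ _))
  choose! n hn hn' using hdiv
  refine ⟨u, ∑ j ∈ π.supportᶜ, n j, ?_, ?_, ?_⟩
  · rw [mul_comm, ← hu]; exact card_le_univ _
  · refine (sum_le_sum hn).trans ?_
    rw [sum_const, card_compl, hu, smul_eq_mul, mul_comm r u]
  · rw [card_eq_sum_card_fiberwise (f := f) (t := univ) (fun x _ => mem_univ _), ← sum_add_sum_compl π.support,
      sum_congr rfl (fun j hj => hmove j (Perm.mem_support.1 hj)), sum_congr rfl hn', sum_const, hu, ← mul_sum,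
      smul_eq_mul]
    ring

/-- Enough room gives a fixed partition. -/
theorem exists_fixed {a b u c : ℕ} {σ : Perm (Fin (a * b))} (hσ : σ ^ r = 1) (hu : u * r ≤ b)
    (hc : c ≤ (b - u * r) * (a / r)) (hs : σ.support.card = r * (u * a + c)) :
    ∃ f : Fin (a * b) → Fin b, (∀ j : Fin b, Nat.card {x : Fin (a * b) // f x = j} = a) ∧
      ∃ π : Perm (Fin b), ∀ x, f (σ x) = π (f x) := by
  classical
  haveI : NeZero r := ⟨(Fact.out : r.Prime).ne_zero⟩
  set v := b - u * r
  set A := a / r
  set l := a % r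
  obtain ⟨S, -, hS⟩ := exists_subset_card_eq (s := (univ : Finset (Fin v × Fin A))) (n := c)
    (by simpa using hc)
  let δ : Fin v × Fin A → ZMod r := fun q => if q ∈ S then 1 else 0
  let mv : ZMod r → ((Fin u × ZMod r) ⊕ Fin v) × ((Fin A × ZMod r) ⊕ Fin l) → ((Fin u × ZMod r) ⊕ Fin v) × ((Fin A × ZMod r) ⊕ Fin l) := fun n z =>
    match z with
    | (Sum.inl (i, t), d) => (Sum.inl (i, t + n), d)
    | (Sum.inr i, Sum.inl (s, t)) => (Sum.inr i, Sum.inl (s, t + n * δ (i, s)))
    | (Sum.inr i, Sum.inr m) => (Sum.inr i, Sum.inr m)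
  have hmv : ∀ n m z, mv n (mv m z) = mv (m + n) z := by
    rintro n m (⟨⟨i, t⟩ | i, ⟨s, t'⟩ | k⟩) <;> simp [mv, add_assoc, add_mul]
  have hmv0 : ∀ z, mv 0 z = z := by
    rintro (⟨⟨i, t⟩ | i, ⟨s, t'⟩ | k⟩) <;> simp [mv]
  let σ₀ : Perm (((Fin u × ZMod r) ⊕ Fin v) × ((Fin A × ZMod r) ⊕ Fin l)) :=
    ⟨mv 1, mv (-1), fun z => by rw [hmv, add_neg_cancel, hmv0], fun z => by rw [hmv, neg_add_cancel, hmv0]⟩
  have hpow : ∀ (n : ℕ) z, (σ₀ ^ n) z = mv n z := fun n z => by
    induction n with
    | zero => simp [hmv0]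
    | succ n ih =>
      rw [pow_succ', Perm.mul_apply, ih]
      show mv 1 (mv n z) = _
      rw [hmv, Nat.cast_succ]
  have hσ₀ : σ₀ ^ r = 1 := Equiv.ext fun z => by rw [hpow, ZMod.natCast_self, hmv0]; rfl
  let π₀ : Perm ((Fin u × ZMod r) ⊕ Fin v) := Equiv.sumCongr (Equiv.prodCongr (Equiv.refl _) (Equiv.addRight 1)) (Equiv.refl _)
  have hfst : ∀ z, (σ₀ z).1 = π₀ z.1 := by
    rintro (⟨⟨i, t⟩ | i, ⟨s, t'⟩ | k⟩) <;> rfl
  have hAl : A * r + l = a := by rw [mul_comm]; exact Nat.div_add_mod a r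
  have hB : Fintype.card ((Fin u × ZMod r) ⊕ Fin v) = b := by
    simp only [Fintype.card_sum, Fintype.card_prod, Fintype.card_fin, ZMod.card, v]; omega
  have hD : Fintype.card ((Fin A × ZMod r) ⊕ Fin l) = a := by
    simp only [Fintype.card_sum, Fintype.card_prod, Fintype.card_fin, ZMod.card]; exact hAl
  let eB : ((Fin u × ZMod r) ⊕ Fin v) ≃ Fin b := Fintype.equivFinOfCardEq hB
  let eX : ((Fin u × ZMod r) ⊕ Fin v) × ((Fin A × ZMod r) ⊕ Fin l) ≃ Fin (a * b) := Fintype.equivFinOfCardEq (by rw [Fintype.card_prod, hB, hD, mul_comm])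
  set σ₁ : Perm (Fin (a * b)) := eX.permCongr σ₀
  have hσ₁ : σ₁ ^ r = 1 := by
    rw [show σ₁ = eX.permCongrHom σ₀ from rfl, ← map_pow, hσ₀, map_one]
  have hsupp : σ₁.support.card = r * (u * a + c) := by
    let em : (Fin v × Fin A) × ZMod r ↪ ((Fin u × ZMod r) ⊕ Fin v) × ((Fin A × ZMod r) ⊕ Fin l) :=
      ⟨fun q => (Sum.inr q.1.1, Sum.inl (q.1.2, q.2)), fun q q' h => by
        rcases q with ⟨⟨i, s⟩, t⟩
        rcases q' with ⟨⟨i', s'⟩, t'⟩
        cases h
        rfl⟩
    have e : σ₁.support = (((univ : Finset ((Fin u × ZMod r) × ((Fin A × ZMod r) ⊕ Fin l))).map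
          ⟨fun q => (Sum.inl q.1, q.2), fun q q' h => by simpa [Prod.ext_iff] using h⟩) ∪
        (S ×ˢ (univ : Finset (ZMod r))).map em).map eX.toEmbedding := by
      ext x
      obtain ⟨z, rfl⟩ := eX.surjective x
      rw [Finset.mem_map_equiv, Equiv.symm_apply_apply, Perm.mem_support]
      have : σ₁ (eX z) = eX (σ₀ z) := by simp [σ₁, Equiv.permCongr_apply]
      rw [this, ne_eq, eX.apply_eq_iff_eq]
      simp only [mem_union, mem_map, mem_univ, true_and, mem_product, and_true, em, Function.Embedding.coeFn_mk]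
      rcases z with ⟨⟨i, t⟩ | i, d⟩
      · refine iff_of_true ?_ (Or.inl ⟨((i, t), d), rfl⟩)
        simp [σ₀, mv]
      · rcases d with ⟨s, t⟩ | m
        · by_cases hq : (i, s) ∈ S
          · refine iff_of_true ?_ (Or.inr ⟨((i, s), t), hq, rfl⟩)
            simp [σ₀, mv, δ, hq]
          · refine iff_of_false ?_ ?_
            · simp [σ₀, mv, δ, hq]
            · rintro (⟨q, h⟩ | ⟨q, hq', h⟩)
              · cases h
              · cases h; exact hq hq'
        · refine iff_of_false ?_ ?_
          · simp [σ₀, mv]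
          · rintro (⟨q, h⟩ | ⟨q, hq', h⟩) <;> cases h
    rw [e, card_map, card_union_of_disjoint, card_map, card_map, card_univ, Fintype.card_prod, Fintype.card_prod,
      Fintype.card_fin, ZMod.card, hD, card_product, hS, card_univ, ZMod.card]
    · ring
    · rw [disjoint_left]
      simp only [mem_map]
      rintro _ ⟨q, -, rfl⟩ ⟨q', -, h⟩
      cases h
  have hconj : IsConj σ₁ σ := by
    rw [Perm.isConj_iff_cycleType_eq, (support_dvd hσ₁).1, (support_dvd hσ).1, hsupp, hs]
  obtain ⟨g, hg⟩ := isConj_iff.1 hconj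
  refine ⟨fun x => eB (eX.symm (g⁻¹ x)).1, fun j => ?_, eB.permCongr π₀, fun x => ?_⟩
  · let e : {x : Fin (a * b) // eB (eX.symm (g⁻¹ x)).1 = j} ≃ ((Fin A × ZMod r) ⊕ Fin l) :=
      { toFun := fun x => (eX.symm (g⁻¹ x.1)).2
        invFun := fun d => ⟨g (eX (eB.symm j, d)), by simp⟩
        left_inv := fun x => Subtype.ext (by
          have h1 : eB.symm j = (eX.symm (g⁻¹ x.1)).1 := by rw [eB.symm_apply_eq]; exact x.2.symm
          show g (eX (eB.symm j, (eX.symm (g⁻¹ x.1)).2)) = x.1
          rw [h1, Prod.mk.eta, Equiv.apply_symm_apply]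
          exact g.apply_symm_apply _)
        right_inv := fun d => by simp }
    rw [Nat.card_congr e, Nat.card_eq_fintype_card, hD]
  · show eB (eX.symm (g⁻¹ (σ x))).1 = eB.permCongr π₀ (eB (eX.symm (g⁻¹ x)).1)
    have h1 : g⁻¹ (σ x) = σ₁ (g⁻¹ x) := by rw [← hg]; simp
    rw [h1, Equiv.permCongr_apply, Equiv.symm_apply_apply]
    simp [σ₁, Equiv.permCongr_apply, hfst]

/-- All numbers of cycles are possible exactly under the numerical condition. -/
theorem cover_iff {a b : ℕ} (ha : 2 ≤ a) (hb : 2 ≤ b) {r : ℕ} (hr : 2 ≤ r) (hrab : r ≤ a * b) :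
    (∀ j, 1 ≤ j → j * r ≤ a * b → ∃ u c, u * r ≤ b ∧ c ≤ (b - u * r) * (a / r) ∧ j = u * a + c) ↔
      (r ≤ a ∧ (a % r = 0 ∨ (b % r = 0 ∧ a % r = 1) ∨
        (a % r ≠ 0 ∧ b % r ≠ 0 ∧ (b % r) * (a % r) < r ∧ (b < r ∨ (b % r + r) * (a % r) ≤ (b % r) * a + r)))) := by
  have hA : r * (a / r) + a % r = a := Nat.div_add_mod a r
  have hB : r * (b / r) + b % r = b := Nat.div_add_mod b r
  have hl : a % r < r := Nat.mod_lt _ (by omega)
  have hk : b % r < r := Nat.mod_lt _ (by omega)
  have hbr : b < r ↔ b / r = 0 := (Nat.div_eq_zero_iff_lt (by omega)).symm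
  revert hA hB hl hk hbr
  generalize a / r = A, a % r = l, b / r = B, b % r = k
  intro hA hB hl hk hbr
  have hab : a * b = (B * a + k * A) * r + k * l := by rw [← hA, ← hB]; ring
  have hsub : ∀ u, u ≤ B → (b - u * r) = (B - u) * r + k := fun u hu => by
    have : u * r ≤ B * r := Nat.mul_le_mul_right r hu
    rw [Nat.sub_mul, ← hB]; rw [mul_comm r B]; omega
  have huB : ∀ u, u * r ≤ b → u ≤ B := fun u hu => by
    by_contra hne
    have := Nat.mul_le_mul_right r (show B + 1 ≤ u by omega)
    rw [← hB, add_mul, one_mul, mul_comm B r] at *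
    omega
  constructor
  · intro h
    have hra : r ≤ a := by
      by_contra hne
      have hA0 : A = 0 := by
        rcases Nat.eq_zero_or_pos A with h0 | h0
        · exact h0
        · have := Nat.le_mul_of_pos_right r h0; omega
      obtain ⟨u, c, hu, hc, hj⟩ := h 1 le_rfl (by rw [one_mul]; exact hrab)
      rw [hA0, mul_zero] at hc
      rcases Nat.eq_zero_or_pos u with h0 | h0
      · rw [h0, zero_mul] at hj; omega
      · have := Nat.le_mul_of_pos_left a h0; omega
    have hkl : k * l < r := by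
      by_contra hne
      obtain ⟨u, c, hu, hc, hj⟩ := h (B * a + k * A + 1) (by omega) (by rw [hab, add_mul, one_mul]; omega)
      have huB' := huB u hu
      rw [hsub u huB'] at hc
      obtain ⟨d, rfl⟩ := Nat.exists_eq_add_of_le huB'
      rw [Nat.add_sub_cancel_left] at hc
      have : d * (r * A) ≤ d * a := Nat.mul_le_mul_left d (by omega)
      nlinarith
    refine ⟨hra, ?_⟩
    rcases Nat.eq_zero_or_pos l with hl0 | hl0
    · exact Or.inl hl0
    have hgap : B = 0 ∨ l ≤ k * A + 1 := by
      rcases Nat.eq_zero_or_pos B with h0 | h0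
      · exact Or.inl h0
      refine Or.inr (Nat.le_of_not_lt fun hlt => ?_)
      obtain ⟨B', rfl⟩ := Nat.exists_eq_add_of_le' h0
      obtain ⟨u, c, hu, hc, hj⟩ := h (B' * a + (r + k) * A + 1) (by omega) (by
        rw [hab]
        have h1 : B' * a + (r + k) * A + 1 ≤ (B' + 1) * a + k * A := by nlinarith
        have h2 := Nat.mul_le_mul_right r h1
        exact h2.trans (Nat.le_add_right _ _))
      have huB' := huB u hu
      rw [hsub u huB'] at hc
      rcases Nat.lt_or_ge u (B' + 1) with h1 | h1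
      · obtain ⟨d, rfl⟩ := Nat.exists_eq_add_of_le (show u ≤ B' by omega)
        rw [show u + d + 1 - u = d + 1 by omega] at hc
        have : d * (r * A) ≤ d * a := Nat.mul_le_mul_left d (by omega)
        nlinarith
      · have : (B' + 1) * a ≤ u * a := Nat.mul_le_mul_right a h1
        nlinarith
    rcases Nat.eq_zero_or_pos k with hk0 | hk0
    · refine Or.inr (Or.inl ⟨hk0, ?_⟩)
      rcases hgap with h0 | h0
      · subst h0 hk0; omega
      · rw [hk0, zero_mul] at h0; omega
    refine Or.inr (Or.inr ⟨by omega, by omega, hkl, ?_⟩)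
    rcases hgap with h0 | h0
    · exact Or.inl (hbr.2 h0)
    · exact Or.inr (by have := Nat.mul_le_mul_left r h0; nlinarith)
  · rintro ⟨hra, hcase⟩ j hj1 hj
    have hkl : k * l < r := by
      rcases hcase with h | ⟨h, -⟩ | ⟨-, -, h, -⟩
      · rw [h, mul_zero]; omega
      · rw [h, zero_mul]; omega
      · exact h
    have hgap : B = 0 ∨ l ≤ k * A + 1 := by
      rcases hcase with h | ⟨h, h'⟩ | ⟨-, -, -, h | h⟩
      · right; omega
      · right; omega
      · exact Or.inl (hbr.1 h)
      · right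
        by_contra hne
        have := Nat.mul_le_mul_left r (show k * A + 1 + 1 ≤ l by omega)
        nlinarith
    have hjtop : j ≤ B * a + k * A := by
      by_contra hne
      have := Nat.mul_le_mul_right r (show B * a + k * A + 1 ≤ j by omega)
      nlinarith
    by_cases hq : B * a ≤ j
    · refine ⟨B, j - B * a, by rw [← hB, mul_comm]; omega, ?_, by omega⟩
      rw [hsub B le_rfl, Nat.sub_self, zero_mul, zero_add]; omega
    · have hu : j / a < B := (Nat.div_lt_iff_lt_mul (by omega)).2 (by omega)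
      have hdm : a * (j / a) + j % a = j := Nat.div_add_mod j a
      have hm : j % a < a := Nat.mod_lt _ (by omega)
      refine ⟨j / a, j % a, le_trans (Nat.mul_le_mul_right r hu.le) (by rw [← hB, mul_comm]; omega), ?_,
        by rw [mul_comm]; omega⟩
      rw [hsub _ hu.le]
      obtain ⟨d, hd⟩ := Nat.exists_eq_add_of_le (show 1 ≤ B - j / a by omega)
      have : (r + k) * A ≤ ((B - j / a) * r + k) * A := Nat.mul_le_mul_right A (by rw [hd]; nlinarith)
      rcases hgap with h0 | h0
      · exact absurd hu (by rw [h0]; exact Nat.not_lt_zero _)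
      · nlinarith

omit [Fact r.Prime] in
theorem count_dvd {a : ℕ} (ha : 0 < a) (b : ℕ) : a.factorial ^ b * b.factorial ∣ (a * b).factorial := by
  induction b with
  | zero => simp
  | succ b ih =>
    have h1 := Nat.choose_mul_factorial_mul_factorial (show a - 1 ≤ a * b + a - 1 by omega)
    rw [show a * b + a - 1 - (a - 1) = a * b by omega] at h1
    obtain ⟨n, hn⟩ := ih
    refine ⟨(a * b + a - 1).choose (a - 1) * n, ?_⟩
    have e : (a * (b + 1)).factorial = (a * b + a) * (a * b + a - 1).factorial := by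
      rw [Nat.mul_succ, Nat.mul_factorial_pred (show a * b + a ≠ 0 by omega)]
    rw [e, ← h1, hn, pow_succ, Nat.factorial_succ, ← Nat.mul_factorial_pred ha.ne']
    ring

end Cfsg.Agent.Comb.PartPrime
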